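import Cfsg.Agent.H826.Bs.Perp
set_option linter.all false

/-!
# Geometry of one similitude (S4324, tasks GEO): general part

`Φ : Frm F V` (bilinear / hermitian with `q = 0`, or the polar form with `q = Q`), `X` a similitude.
* `Sng Φ v` : `v` is singular; `SingDim Φ k` : subspaces of dimension `≥ k` contain nonzero singular vectors;
* `PT Φ X` : `X` is scalar on `v^⊥ / v` for every singular eigenvector `v`;
* `finrank_prp_add`, `prp_prp` : dimensions of orthogonal complements;
* `step_one` : consequences of a singular eigenvector;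
* `exists_compl_inv` : invariant complements in coprime characteristic; `hyp_of_ti` : `W ⊕ W₁` nondegenerate.
-/

set_option autoImplicit false
set_option linter.unusedSectionVars false

namespace Cfsg.Agent.H826.Geo

open Cfsg.Agent.H847.Bs Cfsg.Agent.H826.Bs Module

variable {F V : Type*} [Field F] [AddCommGroup V] [Module F V]

/-- `X` is a similitude with factor `c` -/
structure Sim (Φ : Frm F V) (X : V ≃ₗ[F] V) (c : F) : Prop where
  B : ∀ x y, Φ.B (X x) (X y) = c * Φ.B x y
  q : ∀ x, Φ.q (X x) = c * Φ.q x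

/-- singular vectors -/
def Sng (Φ : Frm F V) (v : V) : Prop := Φ.TI (Submodule.span F {v})

/-- every subspace of dimension at least `k` contains a nonzero singular vector -/
def SingDim (Φ : Frm F V) (k : ℕ) : Prop :=
  ∀ W : Submodule F V, k ≤ finrank F W → ∃ v ∈ W, v ≠ 0 ∧ Sng Φ v

/-- `X` is scalar on `v^⊥ / v` for all singular eigenvectors `v` -/
def PT (Φ : Frm F V) (X : V ≃ₗ[F] V) : Prop :=
  ∀ v : V, v ≠ 0 → Sng Φ v → (∃ a : F, X v = a • v) →
    ∃ b : F, ∀ w ∈ prp Φ (Submodule.span F {v}), X w - b • w ∈ Submodule.span F {v}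

/-- `X` is a scalar on `W` -/
def ScOn (X : V ≃ₗ[F] V) (W : Submodule F V) : Prop := ∃ b : F, ∀ w ∈ W, X w = b • w

variable {Φ : Frm F V} {X : V ≃ₗ[F] V} {c : F}

section Dim

theorem mem_prp1 {v w : V} : w ∈ prp Φ (Submodule.span F {v}) ↔ Φ.B w v = 0 := by
  rw [mem_prp_span]
  simp

theorem mem_prp2 {u v w : V} : w ∈ prp Φ (Submodule.span F ({u, v} : Set V)) ↔ Φ.B w u = 0 ∧ Φ.B w v = 0 := by
  rw [mem_prp_span]
  simp

variable [Finite F] [FiniteDimensional F V]

/-- the dimension of the orthogonal complement -/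
theorem finrank_prp_add (hN : Φ.Nd) (D : Submodule F V) : finrank F D + finrank F (prp Φ D) = finrank F V := by
  have hfV : Finite V := Module.finite_of_finite F
  apply le_antisymm
  · -- `D` embeds in the dual annihilator
    let ψ : D → (prp Φ D).dualAnnihilator := fun x =>
      ⟨{ toFun := fun v => Φ.B v x
         map_add' := fun a b => Φ.add_left a b _
         map_smul' := fun a b => Φ.smul_left a b _ }, by
        rw [Submodule.mem_dualAnnihilator]
        intro w hw
        exact hw x x.2⟩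
    have hψ : Function.Injective ψ := by
      intro x y hxy
      apply Subtype.ext
      rw [← sub_eq_zero]
      refine hN _ fun v => ?_
      apply Φ.refl
      have h1 : Φ.B v x = Φ.B v y := LinearMap.congr_fun (congrArg Subtype.val hxy) v
      have h2 := Φ.add_right v ((x : V) - y) y
      rw [sub_add_cancel, h1] at h2
      exact (left_eq_add.mp (by rw [add_comm]; exact h2))
    have : Finite (prp Φ D).dualAnnihilator := Module.finite_of_finite F
    have h1 := Nat.card_le_card_of_injective ψ hψ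
    rw [Module.natCard_eq_pow_finrank (K := F) (V := D),
      Module.natCard_eq_pow_finrank (K := F) (V := (prp Φ D).dualAnnihilator)] at h1
    have h2 : finrank F D ≤ finrank F (prp Φ D).dualAnnihilator :=
      (Nat.pow_le_pow_iff_right (Finite.one_lt_card (α := F))).mp h1
    have h3 := Subspace.finrank_add_finrank_dualAnnihilator_eq (prp Φ D)
    omega
  · let b := finBasis F D
    let T : V →ₗ[F] (Fin (finrank F D) → F) :=
      { toFun := fun v i => Φ.B v (b i)
        map_add' := fun x y => by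
          funext i
          exact Φ.add_left x y _
        map_smul' := fun c x => by
          funext i
          exact Φ.smul_left c x _ }
    have hT : LinearMap.ker T ≤ prp Φ D := by
      intro v hv x hx
      have h1 : ∀ y : D, y ∈ (⊤ : Submodule F D) → Φ.B v y = 0 := by
        intro y hy
        rw [← b.span_eq] at hy
        refine Submodule.span_le (p := (rperp Φ v).comap D.subtype) |>.mpr ?_ hy
        rintro _ ⟨i, rfl⟩
        exact congrFun (LinearMap.mem_ker.mp hv) i
      exact h1 ⟨x, hx⟩ Submodule.mem_top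
    have h1 := LinearMap.finrank_range_add_finrank_ker T
    have h2 := Submodule.finrank_mono hT
    have h3 := Submodule.finrank_le (LinearMap.range T)
    rw [finrank_fin_fun] at h3
    omega

theorem le_prp_prp (D : Submodule F V) : D ≤ prp Φ (prp Φ D) := fun _ hx _ hy => mem_prp'.mp hy _ hx

theorem prp_prp (hN : Φ.Nd) (D : Submodule F V) : prp Φ (prp Φ D) = D := by
  symm
  apply Submodule.eq_of_le_of_finrank_eq (le_prp_prp D)
  have h1 := finrank_prp_add hN D
  have h2 := finrank_prp_add hN (prp Φ D)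
  omega

theorem exists_mem_not_mem {K P : Submodule F V} (h : finrank F P < finrank F K) : ∃ u ∈ K, u ∉ P := by
  by_contra hcon
  push Not at hcon
  exact absurd (Submodule.finrank_mono hcon) (by omega)

theorem exists_sng_not_mem {k : ℕ} (hk : SingDim Φ k) {K P : Submodule F V} (h : finrank F P + k ≤ finrank F K) :
    ∃ u ∈ K, u ∉ P ∧ Sng Φ u := by
  obtain ⟨C, hC⟩ := Submodule.exists_isCompl (P.comap K.subtype)
  have h1 : finrank F (P.comap K.subtype) ≤ finrank F P := by
    have h2 := Submodule.finrank_map_subtype_eq K (P.comap K.subtype)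
    rw [← h2, Submodule.map_comap_subtype]
    exact Submodule.finrank_mono inf_le_right
  have h3 := Submodule.finrank_add_eq_of_isCompl hC
  have h4 := Submodule.finrank_map_subtype_eq K C
  obtain ⟨u, hu, hu0, hus⟩ := hk (C.map K.subtype) (by omega)
  obtain ⟨w, hw, rfl⟩ := hu
  refine ⟨w, w.2, fun hP => hu0 ?_, hus⟩
  have h5 : w ∈ (P.comap K.subtype) ⊓ C := ⟨hP, hw⟩
  rw [hC.inf_eq_bot, Submodule.mem_bot] at h5
  rw [h5]
  rfl

theorem exists_orth_of_pair (z : V) (hN : Φ.Nd) {u v : V} (h : finrank F (Submodule.span F ({u, v} : Set V)) = 2) :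
    ∃ a ∈ Submodule.span F ({u, v} : Set V), a ≠ 0 ∧ Φ.B z a = 0 := by
  have h1 := finrank_prp_add hN (Submodule.span F {z})
  have h2 : finrank F (Submodule.span F ({z} : Set V)) ≤ 1 := by
    have := finrank_span_le_card (R := F) ({z} : Set V)
    simpa using this
  have h3 := Submodule.finrank_sup_add_finrank_inf_eq (Submodule.span F ({u, v} : Set V)) (prp Φ (Submodule.span F {z}))
  have h4 := Submodule.finrank_le (Submodule.span F ({u, v} : Set V) ⊔ prp Φ (Submodule.span F {z}))
  have h5 : 0 < finrank F ↥(Submodule.span F ({u, v} : Set V) ⊓ prp Φ (Submodule.span F {z})) := by omega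
  have h6 := Submodule.one_le_finrank_iff.mp h5
  obtain ⟨a, ha, ha0⟩ := Submodule.exists_mem_ne_zero_of_ne_bot h6
  exact ⟨a, ha.1, ha0, Φ.refl _ _ (mem_prp1.mp ha.2)⟩

end Dim

/-! ### Step 1: singular eigenvectors -/

section One

theorem sng_iff (h0 : ∀ (a : F) x, Φ.q x = 0 → Φ.q (a • x) = 0) {v : V} : Sng Φ v ↔ Φ.B v v = 0 ∧ Φ.q v = 0 := by
  constructor
  · intro h
    exact ⟨h.1 v (Submodule.mem_span_singleton_self v) v (Submodule.mem_span_singleton_self v),
      h.2 v (Submodule.mem_span_singleton_self v)⟩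
  · rintro ⟨h1, h2⟩
    refine ⟨fun x hx y hy => ?_, fun x hx => ?_⟩
    · obtain ⟨a, rfl⟩ := Submodule.mem_span_singleton.mp hx
      obtain ⟨b, rfl⟩ := Submodule.mem_span_singleton.mp hy
      rw [Φ.smul_left, Φ.smul_right, h1, mul_zero, mul_zero]
    · obtain ⟨a, rfl⟩ := Submodule.mem_span_singleton.mp hx
      exact h0 a v h2

theorem sng_smul {v : V} (h : Sng Φ v) (a : F) : Sng Φ (a • v) := by
  have h1 : Submodule.span F {a • v} ≤ Submodule.span F {v} := by
    rw [Submodule.span_singleton_le_iff_mem]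
    exact Submodule.smul_mem _ _ (Submodule.mem_span_singleton_self v)
  exact ⟨fun x hx y hy => h.1 x (h1 hx) y (h1 hy), fun x hx => h.2 x (h1 hx)⟩

theorem sng_self {v : V} (h : Sng Φ v) : Φ.B v v = 0 :=
  h.1 v (Submodule.mem_span_singleton_self v) v (Submodule.mem_span_singleton_self v)

theorem ti_sup' {A C : Submodule F V} (hA : Φ.TI A) (hC : Φ.TI C) (h : ∀ a ∈ A, ∀ b ∈ C, Φ.B a b = 0) :
    Φ.TI (A ⊔ C) := by
  constructor
  · intro x hx y hy
    obtain ⟨a, ha, b, hb, rfl⟩ := Submodule.mem_sup.mp hx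
    obtain ⟨a', ha', b', hb', rfl⟩ := Submodule.mem_sup.mp hy
    rw [Φ.add_left, Φ.add_right, Φ.add_right, hA.1 a ha a' ha', hC.1 b hb b' hb', h a ha b' hb',
      Φ.refl _ _ (h a' ha' b hb)]
    simp
  · intro x hx
    obtain ⟨a, ha, b, hb, rfl⟩ := Submodule.mem_sup.mp hx
    rw [Φ.q_add a b (h a ha b hb), hA.2 a ha, hC.2 b hb, add_zero]

theorem ti_mono {A C : Submodule F V} (hC : Φ.TI C) (h : A ≤ C) : Φ.TI A :=
  ⟨fun x hx y hy => hC.1 x (h hx) y (h hy), fun x hx => hC.2 x (h hx)⟩

theorem ti_pair {u v : V} (hu : Sng Φ u) (hv : Sng Φ v) (h : Φ.B u v = 0) :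
    Φ.TI (Submodule.span F ({u, v} : Set V)) := by
  rw [Submodule.span_insert]
  refine ti_sup' hu hv ?_
  intro a ha b hb
  obtain ⟨a, rfl⟩ := Submodule.mem_span_singleton.mp ha
  obtain ⟨b, rfl⟩ := Submodule.mem_span_singleton.mp hb
  rw [Φ.smul_left, Φ.smul_right, h, mul_zero, mul_zero]

theorem sng_of_ti {A : Submodule F V} (hA : Φ.TI A) {v : V} (hv : v ∈ A) : Sng Φ v :=
  ti_mono hA (by rwa [Submodule.span_singleton_le_iff_mem])

theorem finrank_pair {u v : V} (hv : v ≠ 0) (hu : u ∉ Submodule.span F {v}) :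
    finrank F (Submodule.span F ({u, v} : Set V)) = 2 := by
  have h : LinearIndependent F ![u, v] := by
    rw [LinearIndependent.pair_iff]
    intro s t hst
    have hs : s = 0 := by
      by_contra hs
      apply hu
      rw [Submodule.mem_span_singleton]
      refine ⟨-(s⁻¹ * t), ?_⟩
      have h1 : s • u = -(t • v) := eq_neg_of_add_eq_zero_left hst
      have h2 : u = s⁻¹ • (s • u) := by rw [smul_smul, inv_mul_cancel₀ hs, one_smul]
      rw [h2, h1, smul_neg, smul_smul, neg_smul]
    subst hs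
    rw [zero_smul, zero_add] at hst
    exact ⟨rfl, (smul_eq_zero.mp hst).resolve_right hv⟩
  have h2 := finrank_span_eq_card h
  have h3 : Set.range ![u, v] = ({u, v} : Set V) := by
    rw [Matrix.range_cons, Matrix.range_cons, Matrix.range_empty, Set.union_empty]
    rfl
  rw [h3] at h2
  rw [h2, Fintype.card_fin]

variable [Finite F] [FiniteDimensional F V]

/-- `X` is the scalar `a` on `v^⊥ / v`, and there is another singular eigenvector orthogonal to `v` -/
def Star (Φ : Frm F V) (X : V ≃ₗ[F] V) : Prop :=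
  ∀ (v : V) (a : F), v ≠ 0 → Sng Φ v → X v = a • v →
    (∀ w ∈ prp Φ (Submodule.span F {v}), X w - a • w ∈ Submodule.span F {v}) ∧
    ∃ u ∈ prp Φ (Submodule.span F {v}), u ∉ Submodule.span F {v} ∧ Sng Φ u ∧ X u = a • u

theorem finrank_prp1 (hN : Φ.Nd) {v : V} (hv : v ≠ 0) : finrank F (prp Φ (Submodule.span F {v})) + 1 = finrank F V := by
  have h1 := finrank_prp_add hN (Submodule.span F {v})
  rw [finrank_span_singleton hv] at h1
  omega

/-- Step 1, part A -/
theorem star_of_pt {k : ℕ} (hN : Φ.Nd) (hk : SingDim Φ k) (hd : k + 3 ≤ finrank F V) (hd5 : 5 ≤ finrank F V)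
    (hPT : PT Φ X) : Star Φ X := by
  intro v a hv hvs hva
  obtain ⟨b, hb⟩ := hPT v hv hvs ⟨a, hva⟩
  have hf := finrank_prp1 hN hv
  have hvm := Submodule.mem_span_singleton_self (R := F) v
  have hv1 := finrank_span_singleton (K := F) hv
  have hab : a = b := by
    by_contra hab
    have hba : b - a ≠ 0 := fun h => hab (sub_eq_zero.mp h).symm
    obtain ⟨w, hw, hwv, hws⟩ := exists_sng_not_mem hk (K := prp Φ (Submodule.span F {v})) (P := Submodule.span F {v})
      (by rw [hv1]; omega)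
    obtain ⟨g, hg⟩ := Submodule.mem_span_singleton.mp (hb w hw)
    -- the eigenvector `w'`
    set w' := w + (g / (b - a)) • v with hw'
    have hXw' : X w' = b • w' := by
      rw [hw', map_add, map_smul, hva, smul_add, smul_smul, smul_smul]
      have h1 : X w = b • w + g • v := by rw [hg]; abel
      rw [h1, add_assoc, ← add_smul]
      congr 2
      field_simp
      ring
    have hww : w' ∉ Submodule.span F {v} := by
      intro h
      apply hwv
      have h1 : w = w' - (g / (b - a)) • v := by rw [hw']; abel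
      rw [h1]
      exact Submodule.sub_mem _ h (Submodule.smul_mem _ _ hvm)
    have hw0 : w' ≠ 0 := fun h => hww (by rw [h]; exact Submodule.zero_mem _)
    have hwB : Φ.B w v = 0 := mem_prp1.mp hw
    have hTI := ti_pair hws hvs hwB
    have hw'm : w' ∈ Submodule.span F ({w, v} : Set V) :=
      Submodule.add_mem _ (Submodule.subset_span (by simp)) (Submodule.smul_mem _ _ (Submodule.subset_span (by simp)))
    have hw's := sng_of_ti hTI hw'm
    obtain ⟨e, he⟩ := hPT w' hw0 hw's ⟨b, hXw'⟩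
    have hvw' : v ∈ prp Φ (Submodule.span F {w'}) := by
      rw [mem_prp1]
      exact hTI.1 v (Submodule.subset_span (by simp)) w' hw'm
    have hae : a = e := by
      by_contra hae
      have h1 := he v hvw'
      rw [hva, ← sub_smul] at h1
      have hae' : a - e ≠ 0 := sub_ne_zero.mpr hae
      have h2 := Submodule.smul_mem _ (a - e)⁻¹ h1
      rw [smul_smul, inv_mul_cancel₀ hae', one_smul] at h2
      obtain ⟨t, ht⟩ := Submodule.mem_span_singleton.mp h2
      apply hww
      rw [Submodule.mem_span_singleton]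
      have ht0 : t ≠ 0 := by
        rintro rfl
        rw [zero_smul] at ht
        exact hv ht.symm
      exact ⟨t⁻¹, by rw [← ht, smul_smul, inv_mul_cancel₀ ht0, one_smul]⟩
    obtain ⟨u, hu, hu2⟩ := exists_mem_not_mem (K := prp Φ (Submodule.span F ({w', v} : Set V)))
      (P := Submodule.span F ({w', v} : Set V)) (by
        have h1 := finrank_prp_add hN (Submodule.span F ({w', v} : Set V))
        rw [finrank_pair hv hww] at h1 ⊢
        omega)
    rw [mem_prp2] at hu
    have h1 := hb u (mem_prp1.mpr hu.2)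
    have h2 := he u (mem_prp1.mpr hu.1)
    have hle1 : Submodule.span F {v} ≤ Submodule.span F ({w', v} : Set V) := Submodule.span_mono (by simp)
    have hle2 : Submodule.span F {w'} ≤ Submodule.span F ({w', v} : Set V) := Submodule.span_mono (by simp)
    have h3 := Submodule.sub_mem _ (hle1 h1) (hle2 h2)
    have h4 : X u - b • u - (X u - e • u) = (e - b) • u := by rw [sub_smul]; abel
    rw [h4, ← hae] at h3
    have hab' : a - b ≠ 0 := sub_ne_zero.mpr hab
    have h5 := Submodule.smul_mem _ (a - b)⁻¹ h3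
    rw [smul_smul, inv_mul_cancel₀ hab', one_smul] at h5
    exact hu2 h5
  subst hab
  refine ⟨hb, ?_⟩
  -- the eigenspace in `v^⊥`
  let f : prp Φ (Submodule.span F {v}) →ₗ[F] V := ((X : V →ₗ[F] V) - a • LinearMap.id) ∘ₗ (prp Φ (Submodule.span F {v})).subtype
  have hr : LinearMap.range f ≤ Submodule.span F {v} := by
    rintro _ ⟨w, rfl⟩
    exact hb w w.2
  have h1 := LinearMap.finrank_range_add_finrank_ker f
  have h2 := Submodule.finrank_mono hr
  rw [hv1] at h2
  have h3 := Submodule.finrank_map_subtype_eq (prp Φ (Submodule.span F {v})) (LinearMap.ker f)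
  obtain ⟨u, hu, huv, hus⟩ := exists_sng_not_mem hk
    (K := (LinearMap.ker f).map (prp Φ (Submodule.span F {v})).subtype) (P := Submodule.span F {v}) (by rw [hv1]; omega)
  obtain ⟨u, hu, rfl⟩ := hu
  refine ⟨u, u.2, huv, hus, ?_⟩
  have h4 : X (u : V) - a • (u : V) = 0 := LinearMap.mem_ker.mp hu
  exact sub_eq_zero.mp h4

/-- Step 1, part A for `finrank V = 4` (unitary groups) -/
theorem star_of_iso {k : ℕ} (hN : Φ.Nd) (hk : SingDim Φ k) (hd : k + 2 ≤ finrank F V)
    (hPT : PT Φ X) (hI : ∀ W : Submodule F V, Inv X W → Φ.TI W → finrank F W = 2 → ScOn X W) : Star Φ X := by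
  intro v a hv hvs hva
  obtain ⟨b, hb⟩ := hPT v hv hvs ⟨a, hva⟩
  have hf := finrank_prp1 hN hv
  have hvm := Submodule.mem_span_singleton_self (R := F) v
  have hv1 := finrank_span_singleton (K := F) hv
  obtain ⟨w, hw, hwv, hws⟩ := exists_sng_not_mem hk (K := prp Φ (Submodule.span F {v})) (P := Submodule.span F {v})
    (by rw [hv1]; omega)
  obtain ⟨g, hg⟩ := Submodule.mem_span_singleton.mp (hb w hw)
  have hTI := ti_pair hws hvs (mem_prp1.mp hw)
  have hinv : Inv X (Submodule.span F ({w, v} : Set V)) := by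
    intro z hz
    obtain ⟨x, y, rfl⟩ := Submodule.mem_span_pair.mp hz
    rw [map_add, map_smul, map_smul, hva]
    have h1 : X w = b • w + g • v := by rw [hg]; abel
    rw [h1]
    have hwm : w ∈ Submodule.span F ({w, v} : Set V) := Submodule.subset_span (by simp)
    have hvm : v ∈ Submodule.span F ({w, v} : Set V) := Submodule.subset_span (by simp)
    exact Submodule.add_mem _ (Submodule.smul_mem _ _ (Submodule.add_mem _ (Submodule.smul_mem _ _ hwm)
      (Submodule.smul_mem _ _ hvm))) (Submodule.smul_mem _ _ (Submodule.smul_mem _ _ hvm))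
  obtain ⟨e, he⟩ := hI _ hinv hTI (finrank_pair hv hwv)
  have h1 := he v (Submodule.subset_span (by simp))
  have h2 := he w (Submodule.subset_span (by simp))
  have hea : e = a := by
    rw [hva] at h1
    have h3 : (a - e) • v = 0 := by rw [sub_smul, h1, sub_self]
    exact (sub_eq_zero.mp ((smul_eq_zero.mp h3).resolve_right hv)).symm
  subst hea
  have hbe : b = e := by
    by_contra hbe
    have h3 := hb w hw
    rw [h2, ← sub_smul] at h3
    have h4 := Submodule.smul_mem _ (e - b)⁻¹ h3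
    rw [smul_smul, inv_mul_cancel₀ (sub_ne_zero.mpr (Ne.symm hbe)), one_smul] at h4
    exact hwv h4
  subst hbe
  exact ⟨hb, w, hw, hwv, hws, h2⟩

/-- Step 1, part B : the two-dimensional space `P` of singular eigenvectors -/
theorem Star.pair (hS : Star Φ X) {v : V} {a : F} (hv : v ≠ 0) (hvs : Sng Φ v) (hva : X v = a • v) :
    ∃ u, u ∉ Submodule.span F {v} ∧ Φ.TI (Submodule.span F ({u, v} : Set V)) ∧
      (∀ x ∈ Submodule.span F ({u, v} : Set V), x ≠ 0 → ∀ z, Φ.B z x = 0 → X z - a • z ∈ Submodule.span F {x}) := by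
  obtain ⟨-, u, hu, huv, hus, hua⟩ := hS v a hv hvs hva
  have hTI := ti_pair hus hvs (mem_prp1.mp hu)
  refine ⟨u, huv, hTI, ?_⟩
  intro x hx hx0 z hz
  have hxa : X x = a • x := by
    obtain ⟨s, t, rfl⟩ := Submodule.mem_span_pair.mp hx
    rw [map_add, map_smul, map_smul, hua, hva, smul_add, smul_comm s a, smul_comm t a]
  exact (hS x a hx0 (sng_of_ti hTI hx) hxa).1 z (mem_prp1.mpr hz)

/-- a two-dimensional space as in `Star.pair`: `X = a` on its orthogonal complement -/
theorem pair_perp {u v : V} {a : F} (hu0 : u ≠ 0) (hv0 : v ≠ 0) (huv : u ∉ Submodule.span F {v})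
    (h : ∀ x ∈ Submodule.span F ({u, v} : Set V), x ≠ 0 → ∀ z, Φ.B z x = 0 → X z - a • z ∈ Submodule.span F {x})
    {z : V} (hz : z ∈ prp Φ (Submodule.span F ({u, v} : Set V))) : X z = a • z := by
  rw [mem_prp2] at hz
  have h1 := h u (Submodule.subset_span (by simp)) hu0 z hz.1
  have h2 := h v (Submodule.subset_span (by simp)) hv0 z hz.2
  obtain ⟨s, hs⟩ := Submodule.mem_span_singleton.mp h1
  have hs0 : s = 0 := by
    by_contra hs0
    apply huv
    rw [← hs] at h2
    have h3 := Submodule.smul_mem _ s⁻¹ h2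
    rwa [smul_smul, inv_mul_cancel₀ hs0, one_smul] at h3
  rw [hs0, zero_smul] at hs
  exact sub_eq_zero.mp hs.symm

end One

/-! ### Invariant subspaces -/

section Invt

theorem Sim.c_ne [Nontrivial V] (hN : Φ.Nd) (hX : Sim Φ X c) : c ≠ 0 := by
  rintro rfl
  obtain ⟨v, hv⟩ := exists_ne (0 : V)
  apply hv
  refine hN v fun w => ?_
  have h1 := hX.B (X.symm v) (X.symm w)
  rw [X.apply_symm_apply, X.apply_symm_apply, zero_mul] at h1
  exact h1

variable [FiniteDimensional F V]

theorem inv_map_eq {Y : Submodule F V} (hY : Inv X Y) : Y.map (X : V →ₗ[F] V) = Y := by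
  have h1 : Y.map (X : V →ₗ[F] V) ≤ Y := by
    rintro _ ⟨v, hv, rfl⟩
    exact hY v hv
  exact Submodule.eq_of_le_of_finrank_eq h1 (LinearEquiv.finrank_map_eq X Y)

theorem inv_exists {Y : Submodule F V} (hY : Inv X Y) {v : V} (hv : v ∈ Y) : ∃ w ∈ Y, X w = v := by
  rw [← inv_map_eq hY] at hv
  exact hv

theorem inv_symm {Y : Submodule F V} (hY : Inv X Y) {v : V} (hv : X v ∈ Y) : v ∈ Y := by
  obtain ⟨w, hw, h⟩ := inv_exists hY hv
  rwa [← X.injective h]

theorem inv_prp (hX : Sim Φ X c) {Y : Submodule F V} (hY : Inv X Y) : Inv X (prp Φ Y) := by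
  intro v hv y hy
  obtain ⟨w, hw, rfl⟩ := inv_exists hY hy
  rw [hX.B, hv w hw, mul_zero]

theorem inv_sup {Y Z : Submodule F V} (hY : Inv X Y) (hZ : Inv X Z) : Inv X (Y ⊔ Z) := by
  intro v hv
  obtain ⟨a, ha, b, hb, rfl⟩ := Submodule.mem_sup.mp hv
  rw [map_add]
  exact Submodule.add_mem_sup (hY a ha) (hZ b hb)

theorem inv_inf {Y Z : Submodule F V} (hY : Inv X Y) (hZ : Inv X Z) : Inv X (Y ⊓ Z) :=
  fun v hv => ⟨hY v hv.1, hZ v hv.2⟩

/-- a nonzero invariant subspace contains an irreducible one -/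
theorem exists_irr_le {Y : Submodule F V} (hY : Inv X Y) (h0 : Y ≠ ⊥) : ∃ W ≤ Y, Irr X W := by
  have key : ∀ n, ∀ Y : Submodule F V, finrank F Y = n → Inv X Y → Y ≠ ⊥ → ∃ W ≤ Y, Irr X W := by
    intro n
    induction n using Nat.strong_induction_on with
    | _ n ih =>
      intro Y hn hY h0
      by_cases h : ∀ Z ≤ Y, Inv X Z → Z = ⊥ ∨ Z = Y
      · exact ⟨Y, le_refl _, hY, h0, h⟩
      · push Not at h
        obtain ⟨Z, hZY, hZ, hZ0, hZ1⟩ := h
        have hlt : Z < Y := lt_of_le_of_ne hZY hZ1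
        obtain ⟨W, hW, hWi⟩ := ih (finrank F Z) (hn ▸ Submodule.finrank_lt_finrank_of_lt hlt) Z rfl hZ hZ0
        exact ⟨W, hW.trans hZY, hWi⟩
  exact key _ Y rfl hY h0

/-- irreducible subspaces are nondegenerate or isotropic -/
theorem irr_cases (hX : Sim Φ X c) {W : Submodule F V} (hW : Irr X W) : Φ.NdOn W ∨ W ≤ prp Φ W := by
  rcases hW.min (W ⊓ prp Φ W) inf_le_left (inv_inf hW.inv (inv_prp hX hW.inv)) with h | h
  · left
    intro x hx hy
    have h1 : x ∈ W ⊓ prp Φ W := ⟨hx, hy⟩
    rw [h] at h1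
    exact (Submodule.mem_bot F).mp h1
  · right
    rw [← h]
    exact inf_le_right.trans (fun x hx y hy => hx y (hy.1))

/-- invariant complements: `X ^ p` is a scalar, `p` is not the characteristic -/
theorem exists_compl_inv {p : ℕ} {l : F} (hp : (p : F) ≠ 0) (hl : l ≠ 0) (hXp : ∀ v, (X ^ p : V ≃ₗ[F] V) v = l • v)
    {A D : Submodule F V} (hA : Inv X A) (hD : Inv X D) (hAD : A ≤ D) :
    ∃ C ≤ D, Inv X C ∧ C ⊓ A = ⊥ ∧ C ⊔ A = D := by
  have h1 : Squarefree (Polynomial.X ^ p - Polynomial.C l : Polynomial F) :=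
    (Polynomial.separable_X_pow_sub_C l hp hl).squarefree
  have h3 : ∀ k : ℕ, ((X : V →ₗ[F] V) : Module.End F V) ^ k = ((X ^ k : V ≃ₗ[F] V) : V →ₗ[F] V) := by
    intro k
    induction k with
    | zero => rfl
    | succ k ih => rw [pow_succ, ih, pow_succ]; rfl
  have h2 : Polynomial.aeval ((X : V →ₗ[F] V) : Module.End F V) (Polynomial.X ^ p - Polynomial.C l : Polynomial F) = 0 := by
    rw [map_sub, map_pow, Polynomial.aeval_X, Polynomial.aeval_C, h3]
    ext v
    simp only [LinearMap.sub_apply, LinearEquiv.coe_coe, LinearMap.zero_apply, Module.algebraMap_end_apply]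
    rw [hXp, sub_self]
  have h4 := Module.End.isSemisimple_of_squarefree_aeval_eq_zero h1 h2
  rw [Module.End.isSemisimple_iff] at h4
  obtain ⟨C, hC, hAC⟩ := h4 A (fun v hv => hA v hv)
  refine ⟨C ⊓ D, inf_le_right, inv_inf (fun v hv => hC hv) hD, ?_, ?_⟩
  · rw [eq_bot_iff, ← hAC.inf_eq_bot]
    exact fun x hx => ⟨hx.2, hx.1.1⟩
  · apply le_antisymm (sup_le inf_le_right hAD)
    intro x hx
    have h5 : x ∈ A ⊔ C := by rw [hAC.sup_eq_top]; exact Submodule.mem_top
    obtain ⟨a, ha, b, hb, rfl⟩ := Submodule.mem_sup.mp h5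
    rw [add_comm]
    refine Submodule.add_mem_sup ⟨hb, ?_⟩ ha
    have h6 := Submodule.sub_mem _ hx (hAD ha)
    rwa [add_sub_cancel_left] at h6

theorem finrank_prp_inf [Finite F] (hN : Φ.Nd) {U D : Submodule F V} (hD : Φ.NdOn D) (hU : U ≤ D) :
    finrank F U + finrank F ↥(prp Φ U ⊓ D) = finrank F D := by
  have h1 := finrank_prp_add hN U
  have h2 := finrank_prp_add hN D
  have hdec := dec_prp hD
  have h3 : prp Φ U = (prp Φ U ⊓ D) ⊔ prp Φ D := by
    apply le_antisymm
    · intro v hv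
      have h4 : v ∈ D ⊔ prp Φ D := by rw [hdec.compl.sup_eq_top]; exact Submodule.mem_top
      obtain ⟨a, ha, b, hb, rfl⟩ := Submodule.mem_sup.mp h4
      refine Submodule.add_mem_sup ⟨?_, ha⟩ hb
      intro x hx
      have h5 := hv x hx
      rw [Φ.add_left, hb x (hU hx), add_zero] at h5
      exact h5
    · exact sup_le inf_le_left fun v hv x hx => hv x (hU hx)
  have h4 : (prp Φ U ⊓ D) ⊓ prp Φ D = ⊥ := by
    rw [eq_bot_iff, ← hdec.compl.inf_eq_bot]
    exact fun x hx => ⟨hx.1.2, hx.2⟩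
  have h5 := Submodule.finrank_sup_add_finrank_inf_eq (prp Φ U ⊓ D) (prp Φ D)
  rw [h4, finrank_bot, ← h3] at h5
  omega

/-- an isotropic invariant subspace `U` of a nondegenerate one `D` lies in a nondegenerate `H ≤ D` of twice the
dimension -/
theorem exists_hyp [Finite F] {p : ℕ} {l : F} (hp : (p : F) ≠ 0) (hl : l ≠ 0)
    (hXp : ∀ v, (X ^ p : V ≃ₗ[F] V) v = l • v) (hN : Φ.Nd) (hX : Sim Φ X c) {U D : Submodule F V} (hD : Φ.NdOn D)
    (hDi : Inv X D) (hU : Inv X U) (hUD : U ≤ D) (hUU : U ≤ prp Φ U) :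
    ∃ H ≤ D, U ≤ H ∧ Inv X H ∧ Φ.NdOn H ∧ finrank F H = 2 * finrank F U := by
  obtain ⟨C, hCD, hC, h1, h2⟩ := exists_compl_inv hp hl hXp (inv_inf (inv_prp hX hU) hDi) hDi inf_le_right
  have hf := finrank_prp_inf hN hD hUD
  refine ⟨U ⊔ C, sup_le hUD hCD, le_sup_left, inv_sup hU hC, ?_, ?_⟩
  · intro x hx hxy
    obtain ⟨u, hu, v, hv, rfl⟩ := Submodule.mem_sup.mp hx
    have hv0 : v = 0 := by
      have h3 : v ∈ C ⊓ (prp Φ U ⊓ D) := by
        refine ⟨hv, fun y hy => ?_, hCD hv⟩
        have h4 := hxy y (Submodule.mem_sup_left hy)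
        rw [Φ.add_left, hUU hu y hy, zero_add] at h4
        exact h4
      rw [h1] at h3
      exact (Submodule.mem_bot F).mp h3
    subst hv0
    rw [add_zero] at hxy ⊢
    refine hD u (hUD hu) fun y hy => ?_
    rw [← h2] at hy
    obtain ⟨a, ha, b, hb, rfl⟩ := Submodule.mem_sup.mp hy
    rw [Φ.add_right, hxy a (Submodule.mem_sup_right ha), Φ.refl _ _ (hb.1 u hu), add_zero]
  · have h3 := Submodule.finrank_sup_add_finrank_inf_eq U C
    have h4 : U ⊓ C = ⊥ := by
      rw [eq_bot_iff, ← h1]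
      exact fun x hx => ⟨hx.2, hUU hx.1, hUD hx.1⟩
    rw [h4, finrank_bot] at h3
    have h5 := Submodule.finrank_sup_add_finrank_inf_eq C (prp Φ U ⊓ D)
    rw [h1, finrank_bot, h2] at h5
    omega

end Invt

/-! ### The characteristic -/

section Chr

theorem exists_B_ne [Nontrivial V] (hN : Φ.Nd) : ∃ x y, Φ.B x y ≠ 0 := by
  obtain ⟨x, hx⟩ := exists_ne (0 : V)
  by_contra hcon
  push Not at hcon
  exact hx (hN x (hcon x))

theorem s_mul [Nontrivial V] (hN : Φ.Nd) (a b : F) : Φ.s (a * b) = Φ.s a * Φ.s b := by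
  obtain ⟨x, y, hxy⟩ := exists_B_ne hN
  apply mul_right_cancel₀ hxy
  rw [← Φ.smul_right, ← smul_smul, Φ.smul_right, Φ.smul_right, mul_assoc]

theorem s_one [Nontrivial V] (hN : Φ.Nd) : Φ.s 1 = 1 := by
  obtain ⟨x, y, hxy⟩ := exists_B_ne hN
  apply mul_right_cancel₀ hxy
  rw [← Φ.smul_right, one_smul, one_mul]

theorem s_pow [Nontrivial V] (hN : Φ.Nd) (a : F) (k : ℕ) : Φ.s (a ^ k) = Φ.s a ^ k := by
  induction k with
  | zero => rw [pow_zero, pow_zero, s_one hN]
  | succ k ih => rw [pow_succ, pow_succ, s_mul hN, ih]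

theorem B_sub_right (x y z : V) : Φ.B x (y - z) = Φ.B x y - Φ.B x z := by
  have h := Φ.add_right x (y - z) z
  rw [sub_add_cancel] at h
  rw [h]
  ring

variable [Finite F] [FiniteDimensional F V]

/-- `X ^ p` a scalar, `p` the characteristic : `X` is a scalar or there is an eigenvector orthogonal to all eigenvectors -/
theorem exists_of_char [Nontrivial V] {p : ℕ} (hp : p.Prime) (hp0 : (p : F) = 0) {l : F}
    (hXp : ∀ v, (X ^ p : V ≃ₗ[F] V) v = l • v) (hN : Φ.Nd) (hX : Sim Φ X c) :
    ∃ m : F, (∀ v, X v = m • v) ∨ ∃ v, v ≠ 0 ∧ X v = m • v ∧ ∀ w, X w = m • w → Φ.B w v = 0 := by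
  have hFp : Fact p.Prime := ⟨hp⟩
  have hch : CharP F p := (CharP.charP_iff_prime_eq_zero hp).mpr hp0
  obtain ⟨m, hm⟩ : ∃ m : F, m ^ p = l := by
    have h1 : Function.Injective (frobenius F p) := frobenius_inj F p
    obtain ⟨m, hm⟩ := (Finite.injective_iff_surjective.mp h1) l
    exact ⟨m, hm⟩
  refine ⟨m, ?_⟩
  have h3 : ∀ k : ℕ, ((X : V →ₗ[F] V) : Module.End F V) ^ k = ((X ^ k : V ≃ₗ[F] V) : V →ₗ[F] V) := by
    intro k
    induction k with
    | zero => rfl
    | succ k ih => rw [pow_succ, ih, pow_succ]; rfl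
  set n : Module.End F V := (X : V →ₗ[F] V) - m • LinearMap.id with hn
  have hnv : ∀ v, n v = X v - m • v := fun v => rfl
  have hnp : n ^ p = 0 := by
    have h1 : Polynomial.aeval ((X : V →ₗ[F] V) : Module.End F V) ((Polynomial.X - Polynomial.C m : Polynomial F) ^ p) = 0 := by
      have h2 : ((Polynomial.X - Polynomial.C m : Polynomial F) ^ p) = Polynomial.X ^ p - Polynomial.C l := by
        rw [sub_pow_char, ← Polynomial.C_pow, hm]
      rw [h2, map_sub, map_pow, Polynomial.aeval_X, Polynomial.aeval_C, h3]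
      ext v
      simp only [LinearMap.sub_apply, LinearEquiv.coe_coe, LinearMap.zero_apply, Module.algebraMap_end_apply]
      rw [hXp, sub_self]
    rw [map_pow, map_sub, Polynomial.aeval_X, Polynomial.aeval_C] at h1
    exact h1
  by_cases hn0 : n = 0
  · left
    intro v
    have h1 := hnv v
    rw [hn0, LinearMap.zero_apply] at h1
    exact sub_eq_zero.mp h1.symm
  right
  -- the last nonzero power of `n`
  obtain ⟨k, hk1, hk2⟩ : ∃ k, n ^ (k + 1) ≠ 0 ∧ n ^ (k + 2) = 0 := by
    by_contra hcon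
    push Not at hcon
    have h1 : ∀ k, n ^ (k + 1) ≠ 0 := by
      intro k
      induction k with
      | zero => rwa [zero_add, pow_one]
      | succ k ih => exact hcon k ih
    have h2 := h1 (p - 1)
    rw [Nat.sub_add_cancel hp.one_le] at h2
    exact h2 hnp
  obtain ⟨z, hz⟩ : ∃ z, (n ^ (k + 1)) z ≠ 0 := by
    by_contra hcon
    push Not at hcon
    exact hk1 (LinearMap.ext hcon)
  have hker : X ((n ^ (k + 1)) z) = m • (n ^ (k + 1)) z := by
    rw [← sub_eq_zero, ← hnv]
    have h1 : n * n ^ (k + 1) = n ^ (k + 2) := by rw [← pow_succ']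
    have h2 : n ((n ^ (k + 1)) z) = (n * n ^ (k + 1)) z := rfl
    rw [h2, h1, hk2]
    rfl
  have him : (n ^ (k + 1)) z = n ((n ^ k) z) := by
    rw [pow_succ']
    rfl
  refine ⟨(n ^ (k + 1)) z, hz, hker, ?_⟩
  -- `c = m * s m`
  have hm0 : m ≠ 0 := by
    rintro rfl
    rw [zero_smul] at hker
    exact hz (X.map_eq_zero_iff.mp hker)
  have hc : c = m * Φ.s m := by
    set v := (n ^ (k + 1)) z with hv
    obtain ⟨w, hw⟩ : ∃ w, Φ.B v w ≠ 0 := by
      by_contra hcon
      push Not at hcon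
      exact hz (hN v hcon)
    have h1 : ∀ (j : ℕ) (w : V), m ^ j * Φ.B v ((X ^ j : V ≃ₗ[F] V) w) = c ^ j * Φ.B v w := by
      intro j
      induction j with
      | zero => intro w; simp
      | succ j ih =>
        intro w
        have h2 : (X ^ (j + 1) : V ≃ₗ[F] V) w = (X ^ j : V ≃ₗ[F] V) (X w) := by rw [pow_succ]; rfl
        rw [h2, pow_succ, mul_comm (m ^ j) m, mul_assoc, ih (X w), pow_succ, mul_assoc, ← hX.B v w, hker, Φ.smul_left]
        ring
    have h2 := h1 p w
    rw [hXp, Φ.smul_right, ← mul_assoc] at h2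
    have h4 := mul_right_cancel₀ hw h2
    rw [← hm, s_pow hN, ← mul_pow] at h4
    exact (frobenius_inj F p h4).symm
  intro w hw
  rw [him, hnv, B_sub_right, Φ.smul_right]
  have h1 := hX.B w ((n ^ k) z)
  rw [hw, Φ.smul_left, hc, mul_assoc] at h1
  rw [mul_left_cancel₀ hm0 h1, sub_self]

end Chr

end Cfsg.Agent.H826.Geo
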